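import Mathlib
import Cfsg.Prelude.Def_ChevStructure
import Cfsg.Agent.Lib.helper14.INV.F4Defs

/-!
# Project INVE6 (S2175): the data for type `E₆`  (helper21; spin-off of helper14's project INV)
-/

set_option autoImplicit false

namespace Cfsg.Agent.Lib.helper14.INV

open Cfsg.Lie Cfsg.Lie.ChevalleyDatum Cfsg.Agent.Lib.helper8 Cfsg.Agent.Lib.helper14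

/-- the six involutions `w₀ w_J` of `W(E₆)` fixing or making negative every fundamental root, as lists of
the images of the `72` roots; `J = {1,3,4,5,6}, {3,4,5}, {4}, {2}, ∅, {1,…,6}` (nodes numbered from 1; the
last one is the identity) -/
def e6Tabs : List (List ℕ) :=
  [[71, 46, 47, 48, 49, 50, 51, 52, 53, 54, 55, 11, 12, 13, 14, 15, 61, 62, 63, 64, 65, 66, 67, 68, 69, 70, 26, 27, 28, 29, 30, 31, 32, 33, 34, 35, 36, 37, 38, 39, 40, 41, 42, 43, 44, 45, 1, 2, 3, 4, 5, 6, 7, 8, 9, 10, 56, 57, 58, 59, 60, 16, 17, 18, 19, 20, 21, 22, 23, 24, 25, 0],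
   [71, 63, 65, 66, 49, 68, 69, 52, 70, 54, 55, 60, 36, 38, 41, 45, 61, 62, 46, 64, 47, 48, 67, 50, 51, 53, 56, 27, 28, 29, 57, 31, 32, 58, 34, 59, 12, 37, 13, 39, 40, 14, 42, 43, 44, 15, 18, 20, 21, 4, 23, 24, 7, 25, 9, 10, 26, 30, 33, 35, 11, 16, 17, 1, 19, 2, 3, 22, 5, 6, 8, 0],
   [71, 69, 70, 66, 55, 68, 63, 52, 65, 54, 49, 60, 45, 38, 41, 36, 67, 62, 51, 64, 53, 48, 61, 50, 46, 47, 59, 44, 37, 40, 57, 42, 32, 58, 43, 56, 15, 28, 13, 39, 29, 14, 31, 34, 27, 12, 24, 25, 21, 10, 23, 18, 7, 20, 9, 4, 35, 30, 33, 26, 11, 22, 17, 6, 19, 8, 3, 16, 5, 1, 2, 0],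
   [70, 71, 69, 66, 55, 68, 65, 54, 60, 45, 41, 63, 52, 49, 38, 36, 67, 64, 53, 59, 44, 40, 58, 43, 39, 25, 62, 51, 48, 37, 61, 50, 47, 57, 42, 56, 15, 29, 14, 24, 21, 10, 34, 23, 20, 9, 46, 32, 28, 13, 31, 27, 12, 18, 7, 4, 35, 33, 22, 19, 8, 30, 26, 11, 17, 6, 3, 16, 5, 2, 0, 1],
   [71, 70, 69, 66, 55, 68, 65, 54, 63, 52, 49, 60, 45, 41, 38, 36, 67, 64, 53, 62, 51, 48, 61, 50, 47, 46, 59, 44, 40, 37, 58, 43, 39, 57, 42, 56, 15, 29, 14, 32, 28, 13, 34, 31, 27, 12, 25, 24, 21, 10, 23, 20, 9, 18, 7, 4, 35, 33, 30, 26, 11, 22, 19, 8, 17, 6, 3, 16, 5, 2, 1, 0],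
   [0, 1, 2, 3, 4, 5, 6, 7, 8, 9, 10, 11, 12, 13, 14, 15, 16, 17, 18, 19, 20, 21, 22, 23, 24, 25, 26, 27, 28, 29, 30, 31, 32, 33, 34, 35, 36, 37, 38, 39, 40, 41, 42, 43, 44, 45, 46, 47, 48, 49, 50, 51, 52, 53, 54, 55, 56, 57, 58, 59, 60, 61, 62, 63, 64, 65, 66, 67, 68, 69, 70, 71]]

/-- for each of the first five tables, pairwise orthogonal positive roots whose reflections multiply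
to it -/
def e6Std : List (List ℕ) := [[71], [60, 71], [44, 60, 71], [53, 65, 69], [47, 51, 63, 70]]

/-- the class representative to which `∏ x_r(1)`, `r ∈ e6Std[k]`, is conjugate -/
def e6Rep : List (List ℕ) := [[71], [68, 66], [55, 65, 67], [55, 65, 67], [55, 65, 67]]

/-- the three class representatives `x_71(1)`, `x_68(1) x_66(1)`, `x_55(1) x_65(1) x_67(1)` -/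
def e6Reps : List (List ℕ) := [[71], [68, 66], [55, 65, 67]]

def e6GT0 : List (List ℕ × List ℕ) := [([], [0, 1, 2, 0, 3, 1, 2, 0, 3, 2, 4, 3, 1, 2, 0, 3, 2, 4, 3, 1, 5, 4, 3, 1, 2, 0, 3, 2, 4, 3, 1, 5, 4, 3, 2, 0]), ([0], [0, 1, 2, 0, 3, 1, 2, 0, 3, 2, 4, 3, 1, 2, 0, 3, 2, 4, 3, 1, 5, 4, 3, 1, 2, 0, 3, 2, 4, 3, 1, 5, 4, 3, 2]), ([1], [0, 2, 0, 3, 1, 2, 0, 3, 2, 4, 3, 1, 2, 0, 3, 2, 4, 3, 1, 5, 4, 3, 1, 2, 0, 3, 2, 4, 3, 1, 5, 4, 3, 2, 0]), ([0, 1], [0, 2, 0, 3, 1, 2, 0, 3, 2, 4, 3, 1, 2, 0, 3, 2, 4, 3, 1, 5, 4, 3, 1, 2, 0, 3, 2, 4, 3, 1, 5, 4, 3, 2]), ([2], [0, 1, 2, 0, 3, 1, 2, 0, 3, 2, 4, 3, 1, 2, 0, 3, 2, 4, 3, 5, 4, 3, 1, 2, 0, 3, 2, 4, 3, 1, 5, 4, 3, 2, 0]), ([0, 2], [0, 1, 2, 0,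 3, 1, 2, 0, 3, 2, 4, 3, 1, 2, 0, 3, 2, 4, 3, 5, 4, 3, 1, 2, 0, 3, 2, 4, 3, 1, 5, 4, 3]), ([1, 2], [0, 2, 0, 3, 1, 2, 0, 3, 2, 4, 3, 1, 2, 0, 3, 2, 4, 3, 5, 4, 3, 1, 2, 0, 3, 2, 4, 3, 1, 5, 4, 3, 2, 0]), ([0, 1, 2], [0, 2, 0, 3, 1, 2, 0, 3, 2, 4, 3, 1, 2, 0, 3, 2, 4, 3, 5, 4, 3, 1, 2, 0, 3, 2, 4, 3, 1, 5, 4, 3])]

def e6GT1 : List (List ℕ × List ℕ) := [([3], [0, 1, 2, 0, 3, 1, 2, 0, 3, 4, 3, 1, 2, 0, 3, 2, 4, 3, 1, 5, 4, 3, 1, 2, 0, 3, 2, 4, 3, 1, 5, 4, 3, 2, 0]), ([0, 3], [0, 1, 2, 0, 3, 1, 2, 0, 3, 4, 3, 1, 2, 0, 3, 2, 4, 3, 1, 5, 4, 3, 1, 2, 0, 3, 2, 4, 3, 1, 5, 4, 3, 2]), ([1, 3], [0, 2, 0, 3, 1, 2, 3, 4, 3, 1, 2, 0, 3, 2, 4, 3, 1, 5, 4, 3, 1, 2, 0, 3, 2, 4, 3, 1, 5, 4, 3, 2, 0]),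 ([0, 1, 3], [0, 2, 0, 3, 1, 2, 3, 4, 3, 1, 2, 0, 3, 2, 4, 3, 1, 5, 4, 3, 1, 2, 0, 3, 2, 4, 3, 1, 5, 4, 3, 2]), ([2, 3], [0, 1, 2, 0, 3, 1, 2, 0, 3, 4, 3, 1, 2, 0, 3, 2, 4, 5, 4, 3, 1, 2, 0, 3, 2, 4, 3, 1, 5, 4, 3, 2, 0]), ([0, 2, 3], [0, 1, 2, 0, 3, 1, 2, 0, 3, 4, 3, 1, 2, 0, 3, 2, 4, 5, 4, 3, 1, 2, 0, 3, 2, 4, 3, 1, 5, 4]), ([1, 2, 3], [0, 2, 0, 3, 1, 2, 3, 4, 3, 1, 2, 0, 3, 2, 5, 4, 3, 1, 2, 0, 3, 2, 4, 3, 1, 5, 4, 3, 2, 0]), ([0, 1, 2, 3], [0, 2, 0, 3, 1, 2, 3, 4, 3, 1, 2, 0, 3, 2, 5, 4, 3, 1, 2, 0, 3, 2, 4, 3, 5, 4])]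

def e6GT2 : List (List ℕ × List ℕ) := [([4], [0, 1, 2, 3, 1, 2, 0, 3, 2, 4, 3, 1, 2, 0, 3, 2, 4, 3, 1, 5, 4, 3, 1, 2, 0, 3, 2, 4, 3, 1, 5, 4, 3, 2, 0]), ([0, 4], [0, 1, 2, 3, 1, 2, 0, 3, 2, 4, 3, 1, 2, 0, 3, 2, 4, 3, 1, 5, 4, 3, 1, 2, 0, 3, 2, 4, 3, 1, 5, 4, 3, 2]), ([1, 4], [0, 2, 3, 1, 2, 0, 3, 2, 4, 3, 1, 2, 0, 3, 2, 4, 3, 1, 5, 4, 3, 1, 2, 0, 3, 2, 4, 3, 1, 5, 4, 3, 2, 0]), ([0, 1, 4], [0, 2, 3, 1, 2, 0, 3, 2, 4, 3, 1, 2, 0, 3, 2, 4, 3, 1, 5, 4, 3, 1, 2, 0, 3, 2, 4, 3, 1, 5, 4, 3, 2]), ([2, 4], [0, 1, 2, 3, 1, 2, 0, 3, 2, 4, 3, 1, 2, 0, 3, 2, 4, 3, 5, 4, 3, 1, 2, 0, 3, 2, 4, 3, 1, 5, 4, 3, 2, 0]), ([0, 2, 4], [0, 1, 2, 3, 1, 2, 0, 3, 2, 4, 3, 1, 2, 0, 3, 2, 4, 3, 5, 4, 3, 1, 2, 0,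 3, 2, 4, 3, 1, 5, 4, 3]), ([1, 2, 4], [0, 2, 3, 1, 2, 0, 3, 2, 4, 3, 1, 2, 0, 3, 2, 4, 3, 5, 4, 3, 1, 2, 0, 3, 2, 4, 3, 1, 5, 4, 3, 2, 0]), ([0, 1, 2, 4], [0, 2, 3, 1, 2, 0, 3, 2, 4, 3, 1, 2, 0, 3, 2, 4, 3, 5, 4, 3, 1, 2, 0, 3, 2, 4, 3, 1, 5, 4, 3])]

def e6GT3 : List (List ℕ × List ℕ) := [([3, 4], [0, 1, 2, 3, 1, 2, 0, 4, 3, 1, 2, 0, 3, 2, 4, 3, 1, 5, 4, 3, 1, 2, 0, 3, 2, 4, 3, 1, 5, 4, 3, 2, 0]), ([0, 3, 4], [0, 1, 2, 3, 1, 2, 0, 4, 3, 1, 2, 0, 3, 2, 4, 3, 1, 5, 4, 3, 1, 2, 0, 3, 2, 4, 3, 1, 5, 4, 3, 2]), ([1, 3, 4], [0, 2, 3, 1, 4, 3, 1, 2, 0, 3, 2, 4, 3, 1, 5, 4, 3, 1, 2, 0, 3, 2, 4, 3, 1, 5, 4, 3, 2, 0]), ([0, 1, 3, 4], [0, 2, 3, 1, 4, 3, 1, 2, 0, 3, 2, 4, 3, 1, 5, 4, 3, 1, 2, 0,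 3, 2, 4, 3, 1, 5, 4, 3, 2]), ([2, 3, 4], [0, 1, 2, 3, 1, 2, 0, 4, 3, 1, 2, 0, 3, 4, 5, 4, 3, 1, 2, 0, 3, 2, 4, 3, 1, 5, 4, 3, 2, 0]), ([0, 2, 3, 4], [0, 1, 2, 3, 1, 2, 0, 4, 3, 1, 2, 0, 3, 4, 5, 4, 3, 1, 2, 0, 3, 2, 4, 3, 1, 5]), ([1, 2, 3, 4], [0, 2, 3, 1, 4, 3, 2, 0, 5, 4, 3, 1, 2, 0, 3, 2, 4, 3, 1, 5, 4, 3, 2, 0]), ([0, 1, 2, 3, 4], [0, 2, 3, 1, 4, 3, 2, 0, 5, 4, 3, 1, 2, 3, 4, 5])]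

def e6GT4 : List (List ℕ × List ℕ) := [([5], [1, 2, 0, 3, 1, 2, 0, 3, 2, 4, 3, 1, 2, 0, 3, 2, 4, 3, 1, 5, 4, 3, 1, 2, 0, 3, 2, 4, 3, 1, 5, 4, 3, 2, 0]), ([0, 5], [1, 2, 0, 3, 1, 2, 0, 3, 2, 4, 3, 1, 2, 0, 3, 2, 4, 3, 1, 5, 4, 3, 1, 2, 0, 3, 2, 4, 3, 1, 5, 4, 3, 2]), ([1, 5], [2, 0, 3, 1, 2, 0, 3, 2, 4, 3, 1, 2, 0, 3, 2, 4, 3, 1, 5, 4, 3, 1, 2, 0, 3, 2, 4, 3, 1, 5, 4, 3, 2, 0]), ([0, 1, 5], [2, 0, 3, 1, 2, 0, 3, 2, 4, 3, 1, 2, 0, 3, 2, 4, 3, 1, 5, 4, 3, 1, 2, 0, 3, 2, 4, 3, 1, 5, 4, 3, 2]), ([2, 5], [1, 2, 0, 3, 1, 2, 0, 3, 2, 4, 3, 1, 2, 0, 3, 2, 4, 3, 5, 4, 3, 1, 2, 0, 3, 2, 4, 3, 1, 5, 4, 3, 2, 0]), ([0, 2, 5], [1, 2, 0, 3, 1, 2, 0, 3, 2, 4, 3, 1, 2, 0, 3, 2, 4, 3, 5, 4, 3, 1, 2, 0,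 3, 2, 4, 3, 1, 5, 4, 3]), ([1, 2, 5], [2, 0, 3, 1, 2, 0, 3, 2, 4, 3, 1, 2, 0, 3, 2, 4, 3, 5, 4, 3, 1, 2, 0, 3, 2, 4, 3, 1, 5, 4, 3, 2, 0]), ([0, 1, 2, 5], [2, 0, 3, 1, 2, 0, 3, 2, 4, 3, 1, 2, 0, 3, 2, 4, 3, 5, 4, 3, 1, 2, 0, 3, 2, 4, 3, 1, 5, 4, 3])]

def e6GT5 : List (List ℕ × List ℕ) := [([3, 5], [1, 2, 0, 3, 1, 2, 0, 3, 4, 3, 1, 2, 0, 3, 2, 4, 3, 1, 5, 4, 3, 1, 2, 0, 3, 2, 4, 3, 1, 5, 4, 3, 2, 0]), ([0, 3, 5], [1, 2, 0, 3, 1, 2, 0, 3, 4, 3, 1, 2, 0, 3, 2, 4, 3, 1, 5, 4, 3, 1, 2, 0, 3, 2, 4, 3, 1, 5, 4, 3, 2]), ([1, 3, 5], [2, 0, 3, 1, 2, 3, 4, 3, 1, 2, 0, 3, 2, 4, 3, 1, 5, 4, 3, 1, 2, 0, 3, 2, 4, 3, 1, 5, 4, 3, 2, 0]), ([0, 1, 3, 5], [2, 0, 3, 1, 2, 3, 4, 3, 1, 2, 0, 3, 2, 4, 3, 1,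 5, 4, 3, 1, 2, 0, 3, 2, 4, 3, 1, 5, 4, 3, 2]), ([2, 3, 5], [1, 2, 0, 3, 1, 2, 0, 3, 4, 3, 1, 2, 0, 3, 2, 4, 5, 4, 3, 1, 2, 0, 3, 2, 4, 3, 1, 5, 4, 3, 2, 0]), ([0, 2, 3, 5], [1, 2, 0, 3, 1, 2, 0, 3, 4, 3, 1, 2, 0, 3, 2, 4, 5, 4, 3, 1, 2, 0, 3, 2, 4, 3, 1, 5, 4]), ([1, 2, 3, 5], [2, 0, 3, 1, 2, 3, 4, 3, 1, 2, 0, 3, 2, 5, 4, 3, 1, 2, 0, 3, 2, 4, 3, 1, 5, 4, 3, 2, 0]), ([0, 1, 2, 3, 5], [2, 0, 3, 1, 2, 3, 4, 3, 1, 2, 0, 3, 2, 5, 4, 3, 1, 2, 0, 3, 2, 4, 3, 5, 4])]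

def e6GT6 : List (List ℕ × List ℕ) := [([4, 5], [1, 3, 1, 2, 0, 3, 2, 4, 3, 1, 2, 0, 3, 2, 4, 3, 1, 5, 4, 3, 1, 2, 0, 3, 2, 4, 3, 1, 5, 4, 3, 2, 0]), ([0, 4, 5], [1, 3, 1, 2, 0, 3, 2, 4, 3, 1, 2, 0, 3, 2, 4, 3, 1, 5, 4, 3, 1, 2, 0, 3, 2, 4, 3, 1, 5, 4, 3, 2]), ([1, 4, 5], [3, 1, 2, 0, 3, 2, 4, 3, 1, 2, 0, 3, 2, 4, 3, 1, 5, 4, 3, 1, 2, 0, 3, 2, 4, 3, 1, 5, 4, 3, 2, 0]), ([0, 1, 4, 5], [3, 1, 2, 0, 3, 2, 4, 3, 1, 2, 0, 3, 2, 4, 3, 1, 5, 4, 3, 1, 2, 0, 3, 2, 4, 3, 1, 5, 4, 3, 2]), ([2, 4, 5], [1, 3, 1, 2, 0, 3, 2, 4, 3, 1, 2, 0, 3, 2, 4, 3, 5, 4, 3, 1, 2, 0, 3, 2, 4, 3, 1, 5, 4, 3, 2, 0]), ([0, 2, 4, 5], [1, 3, 1, 2, 0, 3, 2, 4, 3, 1, 2, 0, 3, 2, 4, 3, 5, 4, 3, 1, 2, 0, 3, 2, 4, 3, 1, 5,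 4, 3]), ([1, 2, 4, 5], [3, 1, 2, 0, 3, 2, 4, 3, 1, 2, 0, 3, 2, 4, 3, 5, 4, 3, 1, 2, 0, 3, 2, 4, 3, 1, 5, 4, 3, 2, 0]), ([0, 1, 2, 4, 5], [3, 1, 2, 0, 3, 2, 4, 3, 1, 2, 0, 3, 2, 4, 3, 5, 4, 3, 1, 2, 0, 3, 2, 4, 3, 1, 5, 4, 3])]

def e6GT7 : List (List ℕ × List ℕ) := [([3, 4, 5], [1, 3, 2, 0, 4, 3, 1, 2, 0, 3, 2, 4, 3, 1, 5, 4, 3, 1, 2, 0, 3, 2, 4, 3, 1, 5, 4, 3, 2, 0]), ([0, 3, 4, 5], [1, 3, 2, 0, 4, 3, 1, 2, 0, 3, 2, 4, 3, 1, 5, 4, 3, 1, 2, 0, 3, 2, 4, 3, 1, 5, 4, 3, 2]), ([1, 3, 4, 5], [4, 3, 1, 2, 0, 3, 2, 4, 3, 1, 5, 4, 3, 1, 2, 0, 3, 2, 4, 3, 1, 5, 4, 3, 2, 0]), ([0, 1, 3, 4, 5], [4, 3, 1, 2, 0, 3, 2, 4, 3, 1, 5, 4, 3, 1, 2, 0, 3, 2, 4, 3, 1, 5, 4, 3, 2]), ([2, 3, 4, 5], [1, 3, 2,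 0, 4, 3, 1, 2, 3, 4, 5, 4, 3, 1, 2, 0, 3, 2, 4, 3, 1, 5, 4, 3, 2, 0]), ([0, 2, 3, 4, 5], [1, 3, 2, 0, 4, 3, 1, 2, 3, 4, 5, 4, 3, 1, 2, 0, 3, 2, 4, 3, 1]), ([1, 2, 3, 4, 5], [5, 4, 3, 1, 2, 0, 3, 2, 4, 3, 1, 5, 4, 3, 2, 0]), ([0, 1, 2, 3, 4, 5], [])]

/-- for every subset `J` of the fundamental roots a reduced word of `w₀ w_J` -/
def e6GT : List (List ℕ × List ℕ) := e6GT0 ++ e6GT1 ++ e6GT2 ++ e6GT3 ++ e6GT4 ++ e6GT5 ++ e6GT6 ++ e6GT7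

end Cfsg.Agent.Lib.helper14.INV
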