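import Mathlib

/-!
# Project INVE6 (S2175): more data (standard words, fusion moves, the sets of NONCONJ)
-/

set_option autoImplicit false

namespace Cfsg.Agent.Lib.helper14.INV

/-- `e6Std[k]` is the list of the roots `v(p_j)`, `(v, j) ∈ e6StdR[k]` -/
def e6StdR : List (List (List ℕ × ℕ)) :=
  [[([1, 3, 4, 5, 2, 3, 4, 1, 3, 2], 0)],
   [([5, 4, 3, 2], 0), ([1, 3, 4, 5, 2, 3, 4, 1, 3, 2], 0)],
   [([4, 3], 2), ([5, 4, 3, 2], 0), ([1, 3, 4, 5, 2, 3, 4, 1, 3, 2], 0)],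
   [([3, 4, 2, 3], 1), ([5, 3, 4, 1, 3, 2], 0), ([4, 5, 2, 3, 4, 1, 3, 2], 0)],
   [([3], 1), ([4, 2, 3], 1), ([5, 4, 1, 3, 2], 0), ([3, 4, 5, 2, 3, 4, 1, 3, 2], 0)]]

/-- the fusion moves: `(true, s)` = conjugation by `x_s(1)`, `(false, i)` = conjugation by `n_i(1)` -/
def e6FuseMoves : List (List (Bool × ℕ)) :=
  [[],
   [(false, 1), (false, 3), (false, 2)],
   [(false, 0), (false, 1), (false, 3), (false, 2), (false, 0)],
   [(false, 0), (false, 2), (false, 0)],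
   [(true, 39), (true, 44), (true, 47), (true, 60),
    (false, 0), (false, 2), (false, 0), (false, 3), (false, 2), (false, 0), (false, 4), (false, 3),
    (false, 2), (false, 5), (false, 4), (false, 3)]]

/-- the `B`-stable closures of the three representatives -/
def e6L : List (List ℕ) :=
  [[71], [66, 68, 69, 70, 71], [55, 65, 66, 67, 68, 69, 70, 71]]

/-- the roots above `r` in the closure of `r` -/
def e6Up (r : ℕ) : List ℕ :=
  if r = 55 then [66, 69, 70, 71] else if r = 65 then [66, 68, 69, 70, 71]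
  else if r = 67 then [68, 69, 70, 71] else if r = 66 then [69, 70, 71]
  else if r = 68 then [69, 70, 71] else []

/-- the witness words: `e6L[k]` is the set of the roots made positive by all the words of `e6Ws[k]` -/
def e6Ws : List (List (List ℕ)) :=
  [[[], [0, 1, 2, 0, 3, 1, 2, 0, 3, 2, 4, 3, 1, 2, 0, 3, 2, 4, 3, 1, 5, 4, 3, 2, 0],
    [2, 3, 1, 4, 3, 2, 5, 4, 3, 1]],
   [[], [0, 1, 2, 0, 3, 1, 2, 0, 3, 2, 4, 3, 1, 2, 0, 3, 2, 4, 3, 1],
    [3, 2, 0, 5, 4, 3, 1, 2, 3, 4, 5]],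
   [[], [0, 2, 0, 3, 2, 0, 4, 3, 2, 0, 5, 4, 3, 1, 2, 0], [0, 3, 1, 4, 3, 2, 5, 4, 3],
    [1, 3, 2, 5, 4, 3, 2, 0]]]

end Cfsg.Agent.Lib.helper14.INV
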