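import Mathlib
import Cfsg.Prelude.Def_ChevStructure
import Cfsg.Agent.Lib.Helper21.INVE6.Defs
import Cfsg.Agent.Lib.Helper21.INVE6.Defs2
import Cfsg.Agent.Lib.helper14.INVFUSEb

/-!
# Project INVE6 (S2175), piece FUSE: the fusion of the five standard products into the three classes
-/

set_option autoImplicit false

namespace Cfsg.Agent.Lib.helper14.INV

open Cfsg.Lie Cfsg.Lie.ChevalleyDatum Cfsg.Agent.Lib.helper8 Cfsg.Agent.Lib.helper14

universe u

variable {F : Type u} [Field F]

set_option maxRecDepth 100000 in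
theorem e6_fuse_chk : (List.range 5).all (fun k =>
    fuseb_ok chevE6 40 (e6FuseMoves.getD k []) (e6Std.getD k []) &&
    (e6Rep.getD k []).all (fun r => decide (chevE6.IsPosRoot r)) &&
    decide (fuseb_run chevE6 40 (e6FuseMoves.getD k []) (e6Std.getD k []) =
      coll chevE6 40 (e6Rep.getD k []))) = true := by
  decide +kernel

/-- FUSE : the fusion of the five products of root elements into the three classes -/
theorem e6_fuse [CharP F 2] (hB : H8Base.{u} chevE6) (k : ℕ) (hk : k < 5) :
    Cj chevE6 (w1 chevE6 hB (e6Std.getD k []) : GL chevE6.Idx F)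
      (w1 chevE6 hB (e6Rep.getD k [])) := by
  have hD : chevE6 ∈ [chevG2, chevB2, chevD4, chevF4, chevE6, chevE7, chevE8] := by simp
  have hA := h8reflAll chevE6 hD
  have hC := h8commAll.{u} chevE6 hD
  have hBN := h8bn_all chevE6 hD
  obtain ⟨hO, _⟩ := h8ord_all chevE6 hD
  have h := e6_fuse_chk
  rw [List.all_eq_true] at h
  have hk' := h k (List.mem_range.mpr hk)
  rw [Bool.and_eq_true, Bool.and_eq_true, decide_eq_true_eq, List.all_eq_true] at hk'
  obtain ⟨⟨h1, h2⟩, h3⟩ := hk'
  rw [coll_sound chevE6 hB hC hBN hO 40 (e6Rep.getD k []) (fun r hr => of_decide_eq_true (h2 r hr)),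
    ← h3]
  exact fuseb_run_cj chevE6 hB hA hC hBN hO 40 _ _ h1

end Cfsg.Agent.Lib.helper14.INV
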