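import Mathlib
import Cfsg.Prelude.Def_ChevStructure
import Cfsg.Agent.Lib.Helper21.INVE6.Defs
import Cfsg.Agent.Lib.Helper11.INVSTDN
import Cfsg.Agent.Lib.Helper11.INVMEM
import Cfsg.Agent.Lib.Helper10.INVWZERO
import Cfsg.Agent.Lib.helper14.F4Cb

/-!
# Project INVE6 (S2175), piece MEM: the three representatives are involutions of `E₆(F)`
-/

set_option autoImplicit false

namespace Cfsg.Agent.Lib.helper14.INV

open Cfsg.Lie Cfsg.Lie.ChevalleyDatum Cfsg.Agent.Lib.helper8 Cfsg.Agent.Lib.helper14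

universe u

variable {F : Type u} [Field F]

theorem e6mem_w1_prod (D : ChevalleyDatum) (hB : H8Base.{u} D) (R : List ℕ) :
    (w1 D hB R : GL D.Idx F) = (R.map fun r => h8xU D hB r (1 : F)).prod := by
  unfold w1 h8wordU
  rw [List.map_map]
  rfl

/-- a product of pairwise commuting root elements with parameter `1` squares to `1`
(characteristic two) -/
theorem e6mem_w1_sq [CharP F 2] (D : ChevalleyDatum) (hB : H8Base.{u} D) (hC : H8CommAll.{u} D)
    (R : List ℕ) (hlt : ∀ r ∈ R, r < D.nroots)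
    (hpw : R.Pairwise (fun r s => invstdnChk1 D r s = true)) :
    (w1 D hB R : GL D.Idx F) * w1 D hB R = 1 := by
  rw [e6mem_w1_prod]
  apply invstdn_prod_sq
  · intro g hg
    rw [List.mem_map] at hg
    obtain ⟨r, hr, rfl⟩ := hg
    exact invmem_x_sq D hB r (hlt r hr)
  · rw [List.pairwise_map]
    exact hpw.imp (fun {r s} hrs => invstdn_comm1 D hB hC r s hrs 1 1)

/-- a product of root elements with parameter `1` over a nonempty increasing list of positive roots
is not `1` -/
theorem e6mem_w1_ne_one (D : ChevalleyDatum) (hB : H8Base.{u} D) (hO2 : H8Ord2 D) (R : List ℕ)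
    (hfil : (h8Lk D 0).filter (fun r => decide (r ∈ R)) = R) (r : ℕ) (hr : r ∈ R)
    (hpos : D.IsPosRoot r) : (w1 D hB R : GL D.Idx F) ≠ 1 := by
  intro h
  have e1 : (w1 D hB R : GL D.Idx F) = f4cW D hB 0 (fun s => if s ∈ R then (1 : F) else 0) :=
    f4cLW_eq_W D hB R hfil (fun _ => 1)
  have e2 : f4cW D hB 0 (fun _ => (0 : F)) = 1 := f4cW_zero' D hB _ (fun _ _ => rfl)
  have h3 : f4cW D hB 0 (fun s => if s ∈ R then (1 : F) else 0) = f4cW D hB 0 (fun _ => (0 : F)) := by
    rw [← e1, h, e2]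
  have h4 := f4c_W_unique0 D hB hO2 _ _ h3 r hpos
  simp only [hr, if_true] at h4
  exact one_ne_zero h4

theorem e6mem_chk3 : ([55, 65, 67] : List ℕ).Pairwise
    (fun r s => invstdnChk1 chevE6 r s = true) := by decide +kernel

theorem e6mem_chk2 : invstdnChk1 chevE6 66 68 = true := by decide +kernel

theorem e6mem_fil3 : (h8Lk chevE6 0).filter (fun r => decide (r ∈ ([55, 65, 67] : List ℕ))) =
    [55, 65, 67] := by decide +kernel

theorem e6mem_pos55 : chevE6.IsPosRoot 55 := by decide +kernel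

/-- MEM : the three representatives are involutions of `G` -/
theorem e6_mem_order [CharP F 2] (hB : H8Base.{u} chevE6) (a : List ℕ) (ha : a ∈ e6Reps) :
    (w1 chevE6 hB a : GL chevE6.Idx F) ∈ chevE6.group F ∧
      orderOf (w1 chevE6 hB a : GL chevE6.Idx F) = 2 := by
  refine ⟨h8wordU_mem_group chevE6 hB _, ?_⟩
  have hD : chevE6 ∈ [chevG2, chevB2, chevD4, chevF4, chevE6, chevE7, chevE8] := by simp
  have hA := h8reflAll chevE6 hD
  have hC := h8commAll.{u} chevE6 hD
  have hBN := h8bn_all chevE6 hD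
  have hW := h8bn2_all chevE6 hD
  obtain ⟨hO, hO2⟩ := h8ord_all chevE6 hD
  have h1 : (1 : F) ≠ 0 := one_ne_zero
  have hn : chevE6.nroots = 72 := rfl
  simp only [e6Reps, List.mem_cons, List.not_mem_nil, or_false] at ha
  rcases ha with rfl | rfl | rfl
  · have e : (w1 chevE6 hB [71] : GL chevE6.Idx F) = h8xU chevE6 hB 71 1 := by
      rw [e6mem_w1_prod]; simp
    rw [e]
    apply orderOf_eq_prime
    · rw [pow_two]
      exact invmem_x_sq chevE6 hB 71 (by rw [hn]; norm_num)
    · exact h8au_xU_ne_one chevE6 hB hA hW 71 (by rw [hn]; norm_num) 1 h1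
  · have e : (w1 chevE6 hB [68, 66] : GL chevE6.Idx F) =
        h8xU chevE6 hB 68 1 * h8xU chevE6 hB 66 1 := by
      rw [e6mem_w1_prod]; simp
    rw [e]
    apply invmem_pair chevE6 hB hA hBN hW hO2 68 66 (by rw [hn]; norm_num) (by rw [hn]; norm_num)
      (by norm_num)
    exact (invstdn_comm1 chevE6 hB hC 66 68 e6mem_chk2 1 1).eq
  · apply orderOf_eq_prime
    · rw [pow_two]
      apply e6mem_w1_sq chevE6 hB hC _ _ e6mem_chk3
      intro r hr
      rw [hn]
      simp only [List.mem_cons, List.not_mem_nil, or_false] at hr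
      rcases hr with rfl | rfl | rfl <;> norm_num
    · exact e6mem_w1_ne_one chevE6 hB hO2 _ e6mem_fil3 55 (by simp) e6mem_pos55

end Cfsg.Agent.Lib.helper14.INV
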