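import Mathlib
import Cfsg.Prelude.Def_ChevStructure
import Cfsg.Agent.Lib.Helper21.INVE6.Defs
import Cfsg.Agent.Lib.Helper21.INVE6.Defs2
import Cfsg.Agent.Lib.helper14.INVGT3
import Cfsg.Agent.Lib.helper14.INVNCa
import Cfsg.Agent.Lib.helper14.INVNCb
import Cfsg.Agent.Lib.helper14.ChevFiltAll

/-!
# Project INVE6 (S2175), piece NONCONJ: the three representatives are pairwise non-conjugate
-/

set_option autoImplicit false

namespace Cfsg.Agent.Lib.helper14.INV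

open Cfsg.Lie Cfsg.Lie.ChevalleyDatum Cfsg.Agent.Lib.helper8 Cfsg.Agent.Lib.helper14

universe u

variable {F : Type u} [Field F]

theorem e6nc_mem_list : chevE6 ∈ [chevG2, chevB2, chevD4, chevF4, chevE6, chevE7, chevE8] := by simp

/-- NCFIL : the lists `e6L[k]` are increasing lists of positive roots -/
theorem e6_nc_fil : ∀ k < 3,
    (h8Lk chevE6 0).filter (fun r => decide (r ∈ e6L.getD k [])) = e6L.getD k [] := by
  decide +kernel

/-- NCWS : the witness words cut out `e6L[k]` -/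
theorem e6_nc_ws : ∀ k < 3,
    (∀ v ∈ e6Ws.getD k [], ∀ i ∈ v, i < chevE6.rank) ∧
    (∀ v ∈ e6Ws.getD k [], ∀ r ∈ e6L.getD k [], chevE6.IsPosRoot (h8sW chevE6 v r)) ∧
    (∀ s < chevE6.nroots, (∀ v ∈ e6Ws.getD k [], chevE6.IsPosRoot (h8sW chevE6 v s)) →
      s ∈ e6L.getD k []) := by
  decide +kernel

theorem e6nc_L_chk : ∀ k < 3, (e6L.getD k []).Nodup ∧ f4cCommChk chevE6 (e6L.getD k []) 2 = true ∧
    (e6Reps.getD k []).Nodup ∧
    ∀ r ∈ e6Reps.getD k [], r ∈ e6L.getD k [] ∧ chevE6.IsPosRoot r := by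
  decide +kernel

theorem e6nc_R_chk : ∀ k < 3, ∀ r ∈ e6Reps.getD k [],
    chevE6.IsPosRoot r ∧ (∀ s ∈ e6Up r, chevE6.IsPosRoot s ∧ r < s) ∧
      (r :: e6Up r).Sublist (e6L.getD k []) ∧
      f4cCommChk chevE6 (r :: e6Up r) 2 = true ∧ f4cStabChk chevE6 (r :: e6Up r) 2 = true ∧
      ∀ r' ∈ e6Reps.getD k [], r' ≠ r → r' ∉ e6Up r := by
  decide +kernel

/-- NCFORM : the `B`-conjugates of the `k`-th representative are words on `e6L[k]` with non-vanishing
coefficients at the roots of the representative -/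
theorem e6_nc_form [CharP F 2] (hB : H8Base.{u} chevE6) (k : ℕ) (hk : k < 3)
    (b : GL chevE6.Idx F) (hb : b ∈ chevE6.borelSubgroup F) :
    ∃ c : ℕ → F, (∀ r ∈ e6Reps.getD k [], c r ≠ 0) ∧
      b * w1 chevE6 hB (e6Reps.getD k []) * b⁻¹ = f4cLW chevE6 hB (e6L.getD k []) c := by
  have hD := e6nc_mem_list
  have hC := h8commAll.{u} chevE6 hD
  obtain ⟨hO, hO2⟩ := h8ord_all chevE6 hD
  have hm : (((2 : ℕ) : ℤ) : F) = 0 := by
    have : ((2 : ℕ) : F) = 0 := CharP.cast_eq_zero F 2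
    exact_mod_cast this
  obtain ⟨h1, h2, h3, _⟩ := e6nc_L_chk k hk
  exact nc_form_prod chevE6 hB hC hO hO2 (cfMax_all chevE6 hD) 2 hm (e6L.getD k []) h1 h2 e6Up
    (e6Reps.getD k []) h3 (e6nc_R_chk k hk) b hb

theorem e6_gtChk' : gtChk chevE6 = true := by decide +kernel

theorem e6_gtSymChk : gtSymChk chevE6 = true := by decide +kernel

theorem e6nc_orth0 : ∀ l < 3, 0 < l → ∃ r ∈ e6Reps.getD l [], ∃ s ∈ e6Reps.getD l [],
    r < 72 ∧ s < 72 ∧ gtIpL chevE6 r s ≠ gtIpL chevE6 71 71 := by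
  decide +kernel

theorem e6nc_orth1 : ∀ a ∈ e6L.getD 1 [], ∀ b ∈ e6L.getD 1 [], ∀ c ∈ e6L.getD 1 [],
    ¬ (gtIpL chevE6 a b = gtIpL chevE6 55 65 ∧ gtIpL chevE6 a c = gtIpL chevE6 55 67 ∧
      gtIpL chevE6 b c = gtIpL chevE6 65 67) := by
  decide +kernel

/-- NCORTH : no Weyl group element maps the pairwise orthogonal roots of the `l`-th representative
into `e6L[k]`, `k < l` -/
theorem e6_nc_orth (k l : ℕ) (hkl : k < l) (hl : l < 3) (w : List ℕ) (hw : ValidW chevE6 w)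
    (h : ∀ r ∈ e6Reps.getD l [], h8sW chevE6 w r ∈ e6L.getD k []) : False := by
  have hA := h8reflAll chevE6 e6nc_mem_list
  have hip := fun r s hr hs => gt_ipL_inv chevE6 hA e6_gtChk' e6_gtSymChk w hw r s hr hs
  have hn : chevE6.nroots = 72 := rfl
  have hk : k = 0 ∨ (k = 1 ∧ l = 2) := by omega
  rcases hk with rfl | ⟨rfl, rfl⟩
  · obtain ⟨r, hr, s, hs, hr72, hs72, hne⟩ := e6nc_orth0 l hl hkl
    have e1 := h r hr
    have e2 := h s hs
    have hL : e6L.getD 0 [] = [71] := rfl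
    rw [hL, List.mem_singleton] at e1 e2
    have := hip r s (by rw [hn]; exact hr72) (by rw [hn]; exact hs72)
    rw [e1, e2] at this
    exact hne this.symm
  · have m55 : (55 : ℕ) ∈ e6Reps.getD 2 [] := by decide
    have m65 : (65 : ℕ) ∈ e6Reps.getD 2 [] := by decide
    have m67 : (67 : ℕ) ∈ e6Reps.getD 2 [] := by decide
    have n55 : 55 < chevE6.nroots := by rw [hn]; norm_num
    have n65 : 65 < chevE6.nroots := by rw [hn]; norm_num
    have n67 : 67 < chevE6.nroots := by rw [hn]; norm_num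
    exact e6nc_orth1 _ (h 55 m55) _ (h 65 m65) _ (h 67 m67)
      ⟨hip 55 65 n55 n65, hip 55 67 n55 n67, hip 65 67 n65 n67⟩

/-- two different representatives are not conjugate -/
theorem e6nc_pair [CharP F 2] (hB : H8Base.{u} chevE6) (k l : ℕ) (hkl : k < l) (hl : l < 3)
    (h : Cj chevE6 (w1 chevE6 hB (e6Reps.getD k []) : GL chevE6.Idx F)
      (w1 chevE6 hB (e6Reps.getD l []))) : False := by
  have hD := e6nc_mem_list
  have hA := h8reflAll chevE6 hD
  have hC := h8commAll.{u} chevE6 hD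
  have hBN := h8bn_all chevE6 hD
  have hW := h8bn2_all chevE6 hD
  obtain ⟨hO, hO2⟩ := h8ord_all chevE6 hD
  have hk : k < 3 := by omega
  obtain ⟨g, hg, e⟩ := h
  obtain ⟨hr1, hp1, hc1⟩ := e6_nc_ws k hk
  obtain ⟨hr2, hp2, hc2⟩ := e6_nc_ws l hl
  obtain ⟨w, w₂, hw, hw₂, h1, h2, h3, h4⟩ := nc_core chevE6 hB hA hC hBN hW hO hO2
    (e6L.getD k []) (e6Reps.getD k []) (e6L.getD l []) (e6Reps.getD l [])
    (e6_nc_fil k hk) (e6_nc_fil l hl) (e6Ws.getD k []) (e6Ws.getD l []) hr1 hr2 hp1 hc1 hp2 hc2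
    (w1 chevE6 hB (e6Reps.getD k [])) (w1 chevE6 hB (e6Reps.getD l []))
    (fun b hb => e6_nc_form hB k hk b hb) (fun b hb => e6_nc_form hB l hl b hb)
    (e6nc_L_chk k hk).2.2.2 (e6nc_L_chk l hl).2.2.2 g hg e
  exact e6_nc_orth k l hkl hl w₂ hw₂ h2

theorem e6nc_idx : ∀ a ∈ e6Reps, ∃ k < 3, a = e6Reps.getD k [] := by decide

theorem e6nc_inj : ∀ k < 3, ∀ l < 3, e6Reps.getD k [] = e6Reps.getD l [] → k = l := by decide

/-- NONCONJ : the three representatives are pairwise non-conjugate -/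
theorem e6_not_conj [CharP F 2] (hB : H8Base.{u} chevE6) (a b : List ℕ) (ha : a ∈ e6Reps)
    (hb : b ∈ e6Reps) (h : Cj chevE6 (w1 chevE6 hB a : GL chevE6.Idx F) (w1 chevE6 hB b)) :
    a = b := by
  obtain ⟨k, hk, rfl⟩ := e6nc_idx a ha
  obtain ⟨l, hl, rfl⟩ := e6nc_idx b hb
  rcases Nat.lt_trichotomy k l with hkl | rfl | hkl
  · exact (e6nc_pair hB k l hkl hl h).elim
  · rfl
  · obtain ⟨g, hg, e⟩ := h
    have h' : Cj chevE6 (w1 chevE6 hB (e6Reps.getD l []) : GL chevE6.Idx F)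
        (w1 chevE6 hB (e6Reps.getD k [])) := by
      refine ⟨g⁻¹, Subgroup.inv_mem _ hg, ?_⟩
      rw [← e]; group
    exact (e6nc_pair hB l k hkl hk h').elim

end Cfsg.Agent.Lib.helper14.INV
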