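import Mathlib
import Cfsg.Prelude.Def_ChevStructure
import Cfsg.Agent.Lib.Helper21.INVE6.Defs
import Cfsg.Agent.Lib.Helper21.INVE6.Defs2
import Cfsg.Agent.Lib.Helper11.INVSTDN
import Cfsg.Agent.Lib.Helper12.INVSTDAG
import Cfsg.Agent.Lib.Helper12.INVSTDCG

/-!
# Project INVE6 (S2175), pieces STDN, STDA, STDC: the five standard involutions `∏ n_r(1)` of `N`
-/

set_option autoImplicit false

namespace Cfsg.Agent.Lib.helper14.INV

open Cfsg.Lie Cfsg.Lie.ChevalleyDatum Cfsg.Agent.Lib.helper8 Cfsg.Agent.Lib.helper14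

universe u

variable {F : Type u} [Field F]

theorem e6_mem_list : chevE6 ∈ [chevG2, chevB2, chevD4, chevF4, chevE6, chevE7, chevE8] := by simp

theorem e6_stdn_chk : ∀ k < 5, invstdnListChk chevE6 (e6Std.getD k []) = true := by
  decide +kernel

/-- STDN : the standard involutions `∏ n_r(1)`, `r ∈ e6Std[k]`, lie in `N` and square to `1` -/
theorem e6_std_N [CharP F 2] (hB : H8Base.{u} chevE6) (k : ℕ) (hk : k < 5) :
    (n1 chevE6 hB (e6Std.getD k []) : GL chevE6.Idx F) ∈ chevE6.monomialSubgroup F ∧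
    (n1 chevE6 hB (e6Std.getD k []) : GL chevE6.Idx F) * n1 chevE6 hB (e6Std.getD k []) = 1 := by
  have hC := h8commAll.{u} chevE6 e6_mem_list
  exact invstdn_list chevE6 hB hC _ (e6_stdn_chk k hk)

theorem e6_stda_valid : ∀ k < 5, ∀ e ∈ e6StdR.getD k [],
    (∀ i ∈ e.1, i < chevE6.rank) ∧ e.2 < chevE6.rank := by decide +kernel

theorem e6_stda_roots : ∀ k < 5, stdRoots chevE6 (e6StdR.getD k []) = e6Std.getD k [] := by
  decide +kernel

theorem e6_stda_tab : ∀ k < 5, ∀ r < 72,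
    h8sW chevE6 (stdWord (e6StdR.getD k [])) r = (e6Tabs.getD k []).getD r 0 := by
  decide +kernel

/-- STDA : the standard involutions act on the root subgroups through the tables -/
theorem e6_std_act (hB : H8Base.{u} chevE6) (k : ℕ) (hk : k < 5) (r : ℕ) (hr : r < 72) :
    H8Act chevE6 hB (n1 chevE6 hB (e6Std.getD k []) : GL chevE6.Idx F) r
      ((e6Tabs.getD k []).getD r 0) := by
  have hD := e6_mem_list
  have hA := h8reflAll chevE6 hD
  have hBN := h8bn_all chevE6 hD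
  have hW := h8bn2_all chevE6 hD
  obtain ⟨_, hO2⟩ := h8ord_all chevE6 hD
  have h1 := n1_act (F := F) chevE6 hB hA hBN hW hO2 (e6StdR.getD k []) (e6_stda_valid k hk) r hr
  rw [e6_stda_roots k hk, e6_stda_tab k hk r hr] at h1
  exact h1

theorem e6_stdc_chk : ∀ k < 5, stdcChk chevE6 (e6Std.getD k []) = true := by decide +kernel

/-- STDC : `∏ n_r(1)` is conjugate to `∏ x_r(1)` (by `∏ x_{-r}(1)`) -/
theorem e6_std_cj [CharP F 2] (hB : H8Base.{u} chevE6) (k : ℕ) (hk : k < 5) :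
    Cj chevE6 (n1 chevE6 hB (e6Std.getD k []) : GL chevE6.Idx F)
      (w1 chevE6 hB (e6Std.getD k [])) :=
  std_cj_gen chevE6 e6_mem_list hB _ (e6_stdc_chk k hk)

end Cfsg.Agent.Lib.helper14.INV
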