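import Mathlib
import Cfsg.Prelude.Def_ChevStructure
import Cfsg.Agent.Lib.Helper21.INVE6.Defs
import Cfsg.Agent.Lib.helper14.INVGT4
import Cfsg.Agent.Lib.helper14.ChevFiltAll
import Cfsg.Agent.Lib.helper8.ChevBNAll
import Cfsg.Agent.Lib.helper8.ChevBNAll2

/-!
# Project INVE6 (S2175), piece TAB: the Weyl group elements of the maximal cells of `E₆`
(port of helper14's `INVTABb`; the table check is split in eight chunks to bound the memory)
-/

set_option autoImplicit false

namespace Cfsg.Agent.Lib.helper14.INV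

open Cfsg.Lie Cfsg.Lie.ChevalleyDatum Cfsg.Agent.Lib.helper8 Cfsg.Agent.Lib.helper14

theorem e6_gtChk : gtChk chevE6 = true := by decide +kernel

theorem e6GT_sub :
    ((List.range chevE6.rank).sublists.all fun J => e6GT.any fun e => e.1 == J) = true := by
  decide +kernel

theorem e6GT0_inv : e6GT0.all (fun e => gtInvChk chevE6 e.1 e.2) = true := by decide +kernel

theorem e6GT0_tabs : ∀ e ∈ e6GT0, gtGood chevE6 e = true →
    (List.range 72).map (h8sW chevE6 e.2) ∈ e6Tabs := by decide +kernel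

theorem e6GT1_inv : e6GT1.all (fun e => gtInvChk chevE6 e.1 e.2) = true := by decide +kernel

theorem e6GT1_tabs : ∀ e ∈ e6GT1, gtGood chevE6 e = true →
    (List.range 72).map (h8sW chevE6 e.2) ∈ e6Tabs := by decide +kernel

theorem e6GT2_inv : e6GT2.all (fun e => gtInvChk chevE6 e.1 e.2) = true := by decide +kernel

theorem e6GT2_tabs : ∀ e ∈ e6GT2, gtGood chevE6 e = true →
    (List.range 72).map (h8sW chevE6 e.2) ∈ e6Tabs := by decide +kernel

theorem e6GT3_inv : e6GT3.all (fun e => gtInvChk chevE6 e.1 e.2) = true := by decide +kernel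

theorem e6GT3_tabs : ∀ e ∈ e6GT3, gtGood chevE6 e = true →
    (List.range 72).map (h8sW chevE6 e.2) ∈ e6Tabs := by decide +kernel

theorem e6GT4_inv : e6GT4.all (fun e => gtInvChk chevE6 e.1 e.2) = true := by decide +kernel

theorem e6GT4_tabs : ∀ e ∈ e6GT4, gtGood chevE6 e = true →
    (List.range 72).map (h8sW chevE6 e.2) ∈ e6Tabs := by decide +kernel

theorem e6GT5_inv : e6GT5.all (fun e => gtInvChk chevE6 e.1 e.2) = true := by decide +kernel

theorem e6GT5_tabs : ∀ e ∈ e6GT5, gtGood chevE6 e = true →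
    (List.range 72).map (h8sW chevE6 e.2) ∈ e6Tabs := by decide +kernel

theorem e6GT6_inv : e6GT6.all (fun e => gtInvChk chevE6 e.1 e.2) = true := by decide +kernel

theorem e6GT6_tabs : ∀ e ∈ e6GT6, gtGood chevE6 e = true →
    (List.range 72).map (h8sW chevE6 e.2) ∈ e6Tabs := by decide +kernel

theorem e6GT7_inv : e6GT7.all (fun e => gtInvChk chevE6 e.1 e.2) = true := by decide +kernel

theorem e6GT7_tabs : ∀ e ∈ e6GT7, gtGood chevE6 e = true →
    (List.range 72).map (h8sW chevE6 e.2) ∈ e6Tabs := by decide +kernel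

theorem e6GT_mem (e : List ℕ × List ℕ) (he : e ∈ e6GT) :
    e ∈ e6GT0 ∨ e ∈ e6GT1 ∨ e ∈ e6GT2 ∨ e ∈ e6GT3 ∨ e ∈ e6GT4 ∨ e ∈ e6GT5 ∨ e ∈ e6GT6 ∨ e ∈ e6GT7 := by
  unfold e6GT at he
  simp only [List.mem_append] at he
  tauto

theorem e6GT_chk : gtTabChk chevE6 e6GT = true := by
  unfold gtTabChk
  rw [Bool.and_eq_true]
  refine ⟨e6GT_sub, ?_⟩
  rw [List.all_eq_true]
  intro e he
  rcases e6GT_mem e he with h | h | h | h | h | h | h | h
  · exact (List.all_eq_true.mp e6GT0_inv) e h
  · exact (List.all_eq_true.mp e6GT1_inv) e h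
  · exact (List.all_eq_true.mp e6GT2_inv) e h
  · exact (List.all_eq_true.mp e6GT3_inv) e h
  · exact (List.all_eq_true.mp e6GT4_inv) e h
  · exact (List.all_eq_true.mp e6GT5_inv) e h
  · exact (List.all_eq_true.mp e6GT6_inv) e h
  · exact (List.all_eq_true.mp e6GT7_inv) e h

theorem e6GT_tabs : ∀ e ∈ e6GT, gtGood chevE6 e = true →
    (List.range 72).map (h8sW chevE6 e.2) ∈ e6Tabs := by
  intro e he
  rcases e6GT_mem e he with h | h | h | h | h | h | h | h
  · exact e6GT0_tabs e h
  · exact e6GT1_tabs e h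
  · exact e6GT2_tabs e h
  · exact e6GT3_tabs e h
  · exact e6GT4_tabs e h
  · exact e6GT5_tabs e h
  · exact e6GT6_tabs e h
  · exact e6GT7_tabs e h

/-- TAB : the involutions of `W(E₆)` fixing or making negative every fundamental root -/
theorem e6_struct (w : List ℕ) (hw : ValidW chevE6 w) (hJ : JProp chevE6 w) :
    (∀ r, chevE6.IsPosRoot r → chevE6.IsPosRoot (h8sW chevE6 w r) →
      chevE6.InRootSub (FixJ chevE6 w) r) ∧
    (List.range 72).map (h8sW chevE6 w) ∈ e6Tabs := by
  have hD : chevE6 ∈ [chevG2, chevB2, chevD4, chevF4, chevE6, chevE7, chevE8] := by simp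
  have hB0 := h8base_all.{0} chevE6 hD
  have hA := h8reflAll chevE6 hD
  have hBN := h8bn_all chevE6 hD
  have hW := h8bn2_all chevE6 hD
  obtain ⟨hO, hO2⟩ := h8ord_all chevE6 hD
  refine ⟨fun r hr hr' => gt_struct chevE6 hB0 hA e6_gtChk w hw hJ r hr hr', ?_⟩
  obtain ⟨e, he, hgood, _, _, heq⟩ :=
    gt_table_good chevE6 hB0 hA hBN hW hO2 e6_gtChk e6GT e6GT_chk w hw hJ
  have h1 := e6GT_tabs e he hgood
  have h2 : (List.range 72).map (h8sW chevE6 w) = (List.range 72).map (h8sW chevE6 e.2) := by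
    apply List.map_congr_left
    intro r hr
    exact heq r (List.mem_range.mp hr)
  rw [h2]
  exact h1

end Cfsg.Agent.Lib.helper14.INV
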