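import Mathlib
import Cfsg.Prelude.Def_ChevStructure
import Cfsg.Agent.Lib.helper14.INV.Gen
import Cfsg.Agent.Lib.helper14.INVHodd
import Cfsg.Agent.Lib.Helper10.INVLEMN
import Cfsg.Agent.Lib.Helper21.INVE6.Defs
import Cfsg.Agent.Lib.Helper21.INVE6.TAB
import Cfsg.Agent.Lib.Helper21.INVE6.STD
import Cfsg.Agent.Lib.Helper21.INVE6.FUSE
import Cfsg.Agent.Lib.Helper21.INVE6.MEM
import Cfsg.Agent.Lib.Helper21.INVE6.NC
/-!
# Project INVE6 (S2175): the assembly — every involution of `E₆(F)`, `char F = 2`, is conjugate to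
one of the three representatives
-/

set_option autoImplicit false

namespace Cfsg.Agent.Lib.helper14.INV

open Cfsg.Lie Cfsg.Lie.ChevalleyDatum Cfsg.Agent.Lib.helper8 Cfsg.Agent.Lib.helper14

universe u

variable {F : Type u} [Field F]

theorem e6_cj_trans (D : ChevalleyDatum) {a b c : GL D.Idx F} (h1 : Cj D a b) (h2 : Cj D b c) :
    Cj D a c := by
  obtain ⟨g, hg, e1⟩ := h1
  obtain ⟨g', hg', e2⟩ := h2
  refine ⟨g' * g, Subgroup.mul_mem _ hg' hg, ?_⟩
  rw [← e2, ← e1]; group

theorem e6_lsChk : lsChk chevE6 = true := by decide +kernel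

theorem e6_rep_mem : ∀ k < 5, e6Rep.getD k [] ∈ e6Reps := by decide

/-- every involution of `E₆(F)`, `char F = 2`, is conjugate to one of the three representatives -/
theorem e6_invol_class [Fintype F] [CharP F 2] (t : GL chevE6.Idx F) (ht : t ∈ chevE6.group F)
    (ho : orderOf t = 2) :
    ∃ a ∈ e6Reps, Cj chevE6 t
      (w1 chevE6 (h8base_all.{u} chevE6 e6_mem_list) a : GL chevE6.Idx F) := by
  have hD := e6_mem_list
  set hB := h8base_all.{u} chevE6 hD with hBdef
  have hB0 := h8base_all.{0} chevE6 hD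
  have hA := h8reflAll chevE6 hD
  have hC := h8commAll.{u} chevE6 hD
  have hBN := h8bn_all chevE6 hD
  have hW := h8bn2_all chevE6 hD
  obtain ⟨hO, hO2⟩ := h8ord_all chevE6 hD
  have hsq : t * t = 1 := by
    have := pow_orderOf_eq_one t
    rw [ho, pow_two] at this
    exact this
  have hne : t ≠ 1 := by
    intro h
    rw [h, orderOf_one] at ho
    omega
  obtain ⟨g, hg, w, hw, hJ, h0, hh, e⟩ := invol_conj_N chevE6 hB hB0 hA hC hBN hW hO hO2 e6_lsChk
    (fun w hw hJ => (e6_struct w hw hJ).1) t ht hsq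
  have htab := (e6_struct w hw hJ).2
  have hn'N : h0 * (h8nWU chevE6 hB w : GL chevE6.Idx F) ∈ chevE6.monomialSubgroup F :=
    Subgroup.mul_mem _ (h8H_le_N chevE6 hh) (h8nWU_mem_N chevE6 hB hA w hw)
  have hn'sq : (h0 * (h8nWU chevE6 hB w : GL chevE6.Idx F)) *
      (h0 * (h8nWU chevE6 hB w : GL chevE6.Idx F)) = 1 := by
    rw [← e]
    have : (g * t * g⁻¹) * (g * t * g⁻¹) = g * (t * t) * g⁻¹ := by group
    rw [this, hsq]; group
  have hn'act : ∀ r < 72, H8Act chevE6 hB (h0 * (h8nWU chevE6 hB w : GL chevE6.Idx F)) r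
      (h8sW chevE6 w r) := by
    intro r hr
    have hr' : r < chevE6.nroots := hr
    have h1 := h8nWU_act (F := F) chevE6 hB hA w hw r hr'
    have h2 := h8perm_H_id chevE6 hB h0 hh (h8sW chevE6 w r) (h8sW_lt chevE6 hA w hw r hr')
    exact h8act_mul chevE6 hB h0 _ _ _ _ h1 h2
  have hodd : Odd (Nat.card (chevE6.diagonalSubgroup F)) := H_card_odd chevE6 hD
  obtain ⟨k, hk, hkeq⟩ := List.getElem_of_mem htab
  have hk6 : k < 6 := hk
  have hσ : ∀ r < 72, h8sW chevE6 w r = (e6Tabs.getD k []).getD r 0 := by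
    intro r hr
    have h1 : ((List.range 72).map (h8sW chevE6 w)).getD r 0 = h8sW chevE6 w r := by
      rw [List.getD_eq_getElem _ _ (by simpa using hr)]
      simp
    rw [← h1, ← hkeq, List.getD_eq_getElem _ _ hk]
  by_cases hk5 : k = 5
  · -- the identity: `t = 1`
    exfalso
    subst hk5
    have hid : ∀ r < 72, h8sW chevE6 w r = r := by
      intro r hr
      rw [hσ r hr]
      have : ∀ r < 72, (e6Tabs.getD 5 []).getD r 0 = r := by decide
      exact this r hr
    have h1act : ∀ r < chevE6.nroots, H8Act chevE6 hB (1 : GL chevE6.Idx F) r r := by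
      intro r _
      refine ⟨1, one_ne_zero, fun t => ?_⟩
      rw [one_mul, inv_one, mul_one, one_mul]
    have hH := N_same_perm chevE6 hB hA hBN hW hO2 (1 : GL chevE6.Idx F)
      (h0 * (h8nWU chevE6 hB w : GL chevE6.Idx F)) (Subgroup.one_mem _) hn'N (fun r => r) h1act
      (fun r hr => by have := hn'act r hr; rwa [hid r hr] at this)
    rw [inv_one, one_mul] at hH
    -- an involution in a group of odd order is trivial
    have hord : orderOf (⟨_, hH⟩ : chevE6.diagonalSubgroup F) ∣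
        Nat.card (chevE6.diagonalSubgroup F) := orderOf_dvd_natCard _
    have h2 : (⟨_, hH⟩ : chevE6.diagonalSubgroup F) ^ 2 = 1 := by
      apply Subtype.ext
      rw [Subgroup.coe_pow, pow_two]
      exact hn'sq
    have hd2 : orderOf (⟨_, hH⟩ : chevE6.diagonalSubgroup F) ∣ 2 := orderOf_dvd_of_pow_eq_one h2
    have hone : orderOf (⟨_, hH⟩ : chevE6.diagonalSubgroup F) = 1 := by
      have hodd' : Odd (orderOf (⟨_, hH⟩ : chevE6.diagonalSubgroup F)) := by
        obtain ⟨c, hc⟩ := hord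
        rw [hc] at hodd
        exact (Nat.odd_mul.mp hodd).1
      rcases (Nat.dvd_prime Nat.prime_two).mp hd2 with h | h
      · exact h
      · rw [h] at hodd'; exact absurd hodd' (by decide)
    rw [orderOf_eq_one_iff] at hone
    have hn1 : h0 * (h8nWU chevE6 hB w : GL chevE6.Idx F) = 1 := congrArg Subtype.val hone
    apply hne
    have : t = g⁻¹ * (g * t * g⁻¹) * g := by group
    rw [this, e, hn1]; group
  · have hk' : k < 5 := by omega
    obtain ⟨hzN, hzsq⟩ := e6_std_N (F := F) hB k hk'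
    have hzact := fun r hr => e6_std_act (F := F) hB k hk' r hr
    have hzcj := e6_std_cj (F := F) hB k hk'
    have hH := N_same_perm chevE6 hB hA hBN hW hO2
      (h0 * (h8nWU chevE6 hB w : GL chevE6.Idx F)) _ hn'N hzN
      (fun r => (e6Tabs.getD k []).getD r 0)
      (fun r hr => by have := hn'act r hr; rwa [hσ r hr] at this) hzact
    obtain ⟨h, hhH, eh⟩ := N_invol_conj chevE6 hB hA hBN hodd _ _ hn'N hzN hn'sq hzsq hH
    have hhG : h ∈ chevE6.group F := h8_B_le_group chevE6 hB (h8H_le_B chevE6 hhH)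
    have hc1 : Cj chevE6 t (n1 chevE6 hB (e6Std.getD k []) : GL chevE6.Idx F) := by
      refine ⟨h * g, Subgroup.mul_mem _ hhG hg, ?_⟩
      rw [← eh, ← e]; group
    exact ⟨e6Rep.getD k [], e6_rep_mem k hk',
      e6_cj_trans chevE6 hc1 (e6_cj_trans chevE6 hzcj (e6_fuse hB k hk'))⟩

end Cfsg.Agent.Lib.helper14.INV
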